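import Mathlib
import Cfsg.Prelude.Def_CaseTheorems

/-!
# The commuting graph of four-groups and the 2-generated core
-/

namespace Cfsg.Agent.FourGraph

open Subgroup

variable {G : Type*} [Group G] [Finite G]

/-- Commuting four-groups. -/
abbrev FRel (A B : Subgroup G) : Prop := IsKleinFour A ∧ IsKleinFour B ∧ ∀ a ∈ A, ∀ b ∈ B, a * b = b * a

theorem isKleinFour_equiv {A B : Type*} [Group A] [Group B] (e : A ≃* B) (h : IsKleinFour A) : IsKleinFour B :=
  ⟨(Nat.card_congr e.toEquiv).symm.trans h.card_four, (Monoid.exponent_eq_of_mulEquiv e).symm.trans h.exponent_two⟩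

theorem isKleinFour_map {H : Type*} [Group H] {f : G →* H} (hf : Function.Injective f) {A : Subgroup G}
    (h : IsKleinFour A) : IsKleinFour (A.map f) :=
  isKleinFour_equiv (A.equivMapOfInjective f hf) h

theorem not_pRankLE {A Q : Subgroup G} (h : IsKleinFour A) (hAQ : A ≤ Q) : ¬ Cfsg.PRankLE 2 1 Q := by
  intro hQ
  haveI := h
  have h4 : Nat.card (A.subgroupOf Q) = 4 := by
    rw [Nat.card_congr (Subgroup.subgroupOfEquivOfLe hAQ).toEquiv, h.card_four]
  have hcomm : IsMulCommutative (A.subgroupOf Q) := ⟨⟨fun a b => by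
    have h1 : (a : Q).1 * (b : Q).1 = (b : Q).1 * (a : Q).1 :=
      congrArg Subtype.val (mul_comm_of_exponent_two h.exponent_two (⟨(a : Q).1, a.2⟩ : A) ⟨(b : Q).1, b.2⟩)
    exact Subtype.ext (Subtype.ext h1)⟩⟩
  have hexp : ∀ a ∈ A.subgroupOf Q, a ^ 2 = 1 := fun a ha => by
    have := Monoid.pow_exponent_eq_one (⟨a.1, ha⟩ : A)
    rw [h.exponent_two] at this
    have h1 : a.1 ^ 2 = 1 := congrArg Subtype.val this
    exact Subtype.ext h1
  have := hQ (A.subgroupOf Q) hcomm hexp
  rw [h4] at this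
  norm_num at this

theorem exists_four {Q : Subgroup G} (hQ : ¬ Cfsg.PRankLE 2 1 Q) : ∃ A ≤ Q, IsKleinFour A := by
  simp only [Cfsg.PRankLE, not_forall, not_le, pow_one] at hQ
  obtain ⟨B, hB, hexp, hcard⟩ := hQ
  have hp : IsPGroup 2 B := fun b => ⟨1, by
    rw [pow_one]; exact Subtype.ext (hexp b.1 b.2)⟩
  obtain ⟨n, hn⟩ := IsPGroup.iff_card.1 hp
  have h2 : 2 ≤ n := by
    by_contra hlt
    push Not at hlt
    interval_cases n <;> simp_all
  obtain ⟨C, hC⟩ := Sylow.exists_subgroup_card_pow_prime 2 (G := B) (n := 2) (hn ▸ pow_dvd_pow 2 h2)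
  haveI : Nontrivial C := Finite.one_lt_card_iff_nontrivial.1 (by rw [hC]; norm_num)
  have hC4 : IsKleinFour C := ⟨by rw [hC]; norm_num, (Monoid.exponent_eq_prime_iff Nat.prime_two).2
    fun g hg => orderOf_eq_prime (Subtype.ext (Subtype.ext (hexp g.1.1 g.1.2))) hg⟩
  let f : C →* G := Q.subtype.comp (B.subtype.comp C.subtype)
  have hf : Function.Injective f :=
    Subtype.val_injective.comp (Subtype.val_injective.comp Subtype.val_injective)
  exact ⟨f.range, by rintro _ ⟨c, rfl⟩; exact (c.1.1).2, isKleinFour_equiv (MonoidHom.ofInjective hf) hC4⟩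

/-- The 2-generated core. -/
def core (S : Subgroup G) : Subgroup G :=
  ⨆ Q : {Q : Subgroup G // Q ≤ S ∧ ¬ Cfsg.PRankLE 2 1 Q}, normalizer ((Q : Subgroup G) : Set G)

variable (S : Sylow 2 G)

theorem mem_core_of {Q : Subgroup G} (h1 : Q ≤ (S : Subgroup G)) {A : Subgroup G} (hA : IsKleinFour A)
    (hAQ : A ≤ Q) {n : G} (hn : n ∈ normalizer (Q : Set G)) : n ∈ core (S : Subgroup G) :=
  le_iSup (fun Q : {Q : Subgroup G // Q ≤ (S : Subgroup G) ∧ ¬ Cfsg.PRankLE 2 1 Q} =>
    normalizer ((Q : Subgroup G) : Set G)) ⟨Q, h1, not_pRankLE hA hAQ⟩ hn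

/-- A Sylow subgroup conjugate to `S` within the core. -/
def Good (T : Sylow 2 G) : Prop := ∃ γ ∈ core (S : Subgroup G), T = γ • S

open scoped Pointwise in
theorem conj_le_iff {γ : G} {X : Subgroup G} {T : Sylow 2 G} :
    X.map (MulAut.conj γ).toMonoidHom ≤ (γ • T : Sylow 2 G) ↔ X ≤ (T : Subgroup G) := by
  rw [Sylow.coe_subgroup_smul, Subgroup.pointwise_smul_def]
  exact Subgroup.map_le_map_iff_of_injective (MulAut.conj γ).injective

theorem klein_conj {A : Subgroup G} (h : IsKleinFour A) (g : G) :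
    IsKleinFour (A.map (MulAut.conj g).toMonoidHom) :=
  isKleinFour_map (MulAut.conj g).injective h

theorem normalizer_mem_core {T : Sylow 2 G} (hT : Good S T) {Q A : Subgroup G} (hQ : Q ≤ (T : Subgroup G))
    (hA : IsKleinFour A) (hAQ : A ≤ Q) {n : G} (hn : n ∈ normalizer (Q : Set G)) : n ∈ core (S : Subgroup G) := by
  obtain ⟨γ, hγ, rfl⟩ := hT
  have hQ' : Q.map (MulAut.conj γ⁻¹).toMonoidHom ≤ (S : Subgroup G) := by
    have := (conj_le_iff (γ := γ⁻¹) (X := Q) (T := γ • S)).2 hQ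
    rwa [inv_smul_smul] at this
  have key : γ⁻¹ * n * γ ∈ core (S : Subgroup G) := by
    refine mem_core_of S hQ' (klein_conj hA γ⁻¹) (Subgroup.map_mono hAQ) ?_
    have hmap := Subgroup.map_equiv_normalizer_eq Q (MulAut.conj γ⁻¹)
    refine hmap ▸ ⟨n, hn, ?_⟩
    simp [MulAut.conj_apply]
  have := mul_mem (mul_mem hγ key) (inv_mem hγ)
  simpa [mul_assoc] using this

theorem good_smul {T : Sylow 2 G} (hT : Good S T) {n : G} (hn : n ∈ core (S : Subgroup G)) : Good S (n • T) := by
  obtain ⟨γ, hγ, rfl⟩ := hT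
  exact ⟨n * γ, mul_mem hn hγ, by rw [mul_smul]⟩

theorem good_of_four {T₁ : Sylow 2 G} (h1 : Good S T₁) {B : Subgroup G} (hB : IsKleinFour B)
    (hB1 : B ≤ (T₁ : Subgroup G)) : ∀ T₂ : Sylow 2 G, B ≤ (T₂ : Subgroup G) → Good S T₂ := by
  suffices ∀ d, ∀ T₁ T₂ : Sylow 2 G, Good S T₁ → B ≤ (T₁ : Subgroup G) → B ≤ (T₂ : Subgroup G) →
      Nat.card G - Nat.card ↥((T₁ : Subgroup G) ⊓ (T₂ : Subgroup G)) = d → Good S T₂ from
    fun T₂ hB2 => this _ T₁ T₂ h1 hB1 hB2 rfl
  intro d
  induction d using Nat.strong_induction_on with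
  | _ d ih =>
    intro T₁ T₂ h1 hB1 hB2 hd
    by_cases heq : T₁ = T₂
    · exact heq ▸ h1
    set Rr := (T₁ : Subgroup G) ⊓ (T₂ : Subgroup G) with hR
    have hgrow : ∀ T : Sylow 2 G, Rr ≤ (T : Subgroup G) → Rr ≠ (T : Subgroup G) →
        Rr < normalizer (Rr : Set G) ⊓ (T : Subgroup G) := by
      intro T hle hne
      haveI : Group.IsNilpotent (T : Subgroup G) := T.2.isNilpotent
      have hlt : Rr.subgroupOf (T : Subgroup G) < ⊤ :=
        lt_top_iff_ne_top.2 fun h => hne (le_antisymm hle (Subgroup.subgroupOf_eq_top.1 h))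
      have := Group.normalizerCondition_of_isNilpotent _ hlt
      refine lt_of_le_of_ne (le_inf le_normalizer hle) fun h => ?_
      refine this.not_ge fun x hx => ?_
      have hx' : (x : G) ∈ normalizer (Rr : Set G) := by
        rw [Subgroup.mem_normalizer_iff] at hx ⊢
        intro y
        constructor
        · intro hy
          exact (hx ⟨y, hle hy⟩).1 hy
        · intro hy
          have hyT : y ∈ (T : Subgroup G) := by
            have h1' := hle hy
            have := mul_mem (mul_mem (inv_mem x.2) h1') x.2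
            simpa [mul_assoc] using this
          exact (hx ⟨y, hyT⟩).2 hy
      rw [Subgroup.mem_subgroupOf, h]
      exact ⟨hx', x.2⟩
    have hne1 : Rr ≠ (T₁ : Subgroup G) := fun h => heq (Sylow.ext (T₁.3 T₂.2 (h ▸ inf_le_right)).symm)
    have hne2 : Rr ≠ (T₂ : Subgroup G) := fun h => heq (Sylow.ext (T₂.3 T₁.2 (h ▸ inf_le_left)))
    set N := normalizer (Rr : Set G)
    have hN1 := hgrow T₁ inf_le_left hne1
    have hN2 := hgrow T₂ inf_le_right hne2
    have hp : ∀ T : Sylow 2 G, IsPGroup 2 ((N ⊓ (T : Subgroup G)).subgroupOf N) := fun T =>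
      (T.2.to_le inf_le_right).comap_of_injective N.subtype Subtype.val_injective
    obtain ⟨P, hP⟩ := (hp T₁).exists_le_sylow
    obtain ⟨P₂, hP₂⟩ := (hp T₂).exists_le_sylow
    obtain ⟨n, hn⟩ := MulAction.exists_smul_eq (N : Subgroup G) P₂ P
    obtain ⟨T₃, hT₃⟩ := (P.2.map N.subtype).exists_le_sylow
    have hsub1 : N ⊓ (T₁ : Subgroup G) ≤ T₃ := fun x hx => hT₃ ⟨⟨x, hx.1⟩, hP (Subgroup.mem_subgroupOf.2 hx), rfl⟩
    have hconj2 : (N ⊓ (T₂ : Subgroup G)).map (MulAut.conj (n : G)).toMonoidHom ≤ (T₃ : Subgroup G) := by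
      rintro _ ⟨x, hx, rfl⟩
      refine hT₃ ⟨n * ⟨x, hx.1⟩ * n⁻¹, ?_, by simp [MulAut.conj_apply]⟩
      rw [← hn]
      have : (⟨x, hx.1⟩ : N) ∈ (P₂ : Subgroup N) := hP₂ (Subgroup.mem_subgroupOf.2 hx)
      rw [SetLike.mem_coe, Sylow.coe_subgroup_smul, Subgroup.mem_pointwise_smul_iff_inv_smul_mem]
      simpa [MulAut.smul_def, mul_assoc] using this
    have hRN : Rr.map (MulAut.conj (n : G)).toMonoidHom = Rr :=
      le_antisymm (by rintro _ ⟨x, hx, rfl⟩; exact (Subgroup.mem_normalizer_iff.1 n.2 x).1 hx)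
        fun x hx => ⟨(n : G)⁻¹ * x * n, (Subgroup.mem_normalizer_iff.1 n.2 _).2 (by simpa [mul_assoc] using hx),
          by simp [mul_assoc]⟩
    have hBR : B ≤ Rr := le_inf hB1 hB2
    have hlt : Nat.card Rr < Nat.card G := lt_of_lt_of_le (Set.Finite.card_lt_card (Set.toFinite _) hN1)
      (Subgroup.card_le_card_group _)
    have step : ∀ T T' : Sylow 2 G, ∀ M : Subgroup G, Good S T → B ≤ (T : Subgroup G) → B ≤ (T' : Subgroup G) →
        Rr < M → M ≤ (T : Subgroup G) ⊓ (T' : Subgroup G) → Good S T' := by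
      intro T T' M hg hb hb' hM hMle
      refine ih _ ?_ T T' hg hb hb' rfl
      rw [← hd]
      have h1 := Set.Finite.card_lt_card (Set.toFinite _) hM
      have h2 := Subgroup.card_le_of_le hMle
      simp only [SetLike.coe_sort_coe] at h1
      omega
    have h3 : Good S T₃ := step T₁ T₃ (N ⊓ (T₁ : Subgroup G)) h1 hB1
      (hBR.trans ((le_inf le_normalizer inf_le_left).trans hsub1)) hN1 (le_inf inf_le_right hsub1)
    have h2' : Good S ((n : G) • T₂) := by
      refine step T₃ _ ((N ⊓ (T₂ : Subgroup G)).map (MulAut.conj (n : G)).toMonoidHom) h3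
        (hBR.trans ((le_inf le_normalizer inf_le_left).trans hsub1)) ?_ ?_ (le_inf hconj2 (conj_le_iff.2 inf_le_right))
      · calc B ≤ Rr := hBR
          _ = Rr.map (MulAut.conj (n : G)).toMonoidHom := hRN.symm
          _ ≤ _ := conj_le_iff.2 inf_le_right
      · conv_lhs => rw [← hRN]
        exact lt_of_le_of_ne (Subgroup.map_mono hN2.le)
          fun h => hN2.ne (Subgroup.map_injective (MulAut.conj (n : G)).injective h)
    have hncore : (n : G) ∈ core (S : Subgroup G) := normalizer_mem_core S h1 inf_le_left hB hBR n.2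
    have := good_smul S h2' (inv_mem hncore)
    rwa [inv_smul_smul] at this

theorem four_in_sylow {A : Subgroup G} (hA : IsKleinFour A) : ∃ T : Sylow 2 G, A ≤ (T : Subgroup G) :=
  (IsPGroup.of_card (n := 2) (by rw [hA.card_four]; rfl) : IsPGroup 2 A).exists_le_sylow

theorem good_step {A C : Subgroup G} (h : FRel A C) (hA : ∀ T : Sylow 2 G, A ≤ (T : Subgroup G) → Good S T) :
    ∀ T : Sylow 2 G, C ≤ (T : Subgroup G) → Good S T := by
  obtain ⟨hAk, hCk, hcomm⟩ := h
  have hpA : IsPGroup 2 A := IsPGroup.of_card (n := 2) (by rw [hAk.card_four]; rfl)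
  have hpC : IsPGroup 2 C := IsPGroup.of_card (n := 2) (by rw [hCk.card_four]; rfl)
  have hnorm : C ≤ normalizer (A : Set G) := fun c hc => Subgroup.mem_normalizer_iff.2 fun a => by
    constructor
    · intro ha
      rwa [← hcomm a ha c hc, mul_inv_cancel_right]
    · intro ha
      have h1 := hcomm _ ha c⁻¹ (inv_mem hc)
      have e : a = c * a * c⁻¹ := by
        calc a = c⁻¹ * (c * a * c⁻¹) * c := by group
          _ = (c * a * c⁻¹) * c⁻¹ * c := by rw [h1]
          _ = c * a * c⁻¹ := by group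
      exact e ▸ ha
  obtain ⟨T, hT⟩ := (IsPGroup.to_sup_of_normal_left' hpA hpC hnorm).exists_le_sylow
  exact good_of_four S (hA T (le_sup_left.trans hT)) hCk (le_sup_right.trans hT)

theorem core_eq_top_of_connected (h2 : ¬ Cfsg.PRankLE 2 1 G) (hG : Cfsg.IsFourConnected G) :
    core (S : Subgroup G) = ⊤ := by
  have h2' : ¬ Cfsg.PRankLE 2 1 (⊤ : Subgroup G) := by
    intro h
    refine h2 fun A hA hexp => ?_
    have := h (A.map Subgroup.topEquiv.symm.toMonoidHom) (by
      haveI := hA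
      exact Subgroup.map_isMulCommutative A _) (by rintro _ ⟨a, ha, rfl⟩; rw [← map_pow, hexp a ha, map_one])
    rwa [Subgroup.card_map_of_injective Subgroup.topEquiv.symm.injective] at this
  obtain ⟨A₀, -, hA₀⟩ := exists_four h2'
  obtain ⟨T, hT⟩ := four_in_sylow hA₀
  obtain ⟨g, rfl⟩ := MulAction.exists_smul_eq G S T
  have hA : IsKleinFour (A₀.map (MulAut.conj g⁻¹).toMonoidHom) := klein_conj hA₀ _
  have hAS : A₀.map (MulAut.conj g⁻¹).toMonoidHom ≤ (S : Subgroup G) := by
    have := (conj_le_iff (γ := g⁻¹)).2 hT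
    rwa [inv_smul_smul] at this
  refine eq_top_iff.2 fun x _ => ?_
  have hxA : IsKleinFour ((A₀.map (MulAut.conj g⁻¹).toMonoidHom).map (MulAut.conj x).toMonoidHom) := klein_conj hA x
  have hall : ∀ C, Relation.ReflTransGen FRel (A₀.map (MulAut.conj g⁻¹).toMonoidHom) C →
      ∀ T : Sylow 2 G, C ≤ (T : Subgroup G) → Good S T := by
    intro C hC
    induction hC with
    | refl => exact good_of_four S ⟨1, one_mem _, (one_smul _ _).symm⟩ hA hAS
    | tail _ h ih => exact good_step S h ih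
  obtain ⟨γ, hγ, he⟩ := hall _ (hG _ _ hA hxA) (x • S) (conj_le_iff.2 hAS)
  have hfix : (γ⁻¹ * x) • S = S := by rw [mul_smul, he, inv_smul_smul]
  have hn := mem_core_of S le_rfl hA hAS (Sylow.smul_eq_iff_mem_normalizer.1 hfix)
  simpa using mul_mem hγ hn

theorem rel_conj {A B : Subgroup G} (g : G) (h : Relation.ReflTransGen FRel A B) :
    Relation.ReflTransGen FRel (A.map (MulAut.conj g).toMonoidHom) (B.map (MulAut.conj g).toMonoidHom) := by
  induction h with
  | refl => exact Relation.ReflTransGen.refl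
  | tail _ h ih =>
    refine ih.tail ⟨klein_conj h.1 g, klein_conj h.2.1 g, ?_⟩
    rintro _ ⟨a, ha, rfl⟩ _ ⟨b, hb, rfl⟩
    rw [← map_mul, h.2.2 a ha b hb, map_mul]

theorem rel_symm {A B : Subgroup G} (h : Relation.ReflTransGen FRel A B) : Relation.ReflTransGen FRel B A := by
  induction h with
  | refl => exact Relation.ReflTransGen.refl
  | tail _ h ih => exact ih.head ⟨h.2.1, h.1, fun b hb a ha => (h.2.2 a ha b hb).symm⟩

theorem connected_of_core_eq_top (hS : Cfsg.IsFourConnected (S : Subgroup G)) (h : core (S : Subgroup G) = ⊤) :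
    Cfsg.IsFourConnected G := by
  have hlift : ∀ A B : Subgroup G, IsKleinFour A → IsKleinFour B → A ≤ (S : Subgroup G) → B ≤ (S : Subgroup G) →
      Relation.ReflTransGen FRel A B := by
    intro A B hA hB hAS hBS
    have h' := hS (A.subgroupOf S) (B.subgroupOf S) (isKleinFour_equiv (subgroupOfEquivOfLe hAS).symm hA)
      (isKleinFour_equiv (subgroupOfEquivOfLe hBS).symm hB)
    have : ∀ C, Relation.ReflTransGen (fun A B : Subgroup (S : Subgroup G) => IsKleinFour A ∧ IsKleinFour B ∧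
        ∀ a ∈ A, ∀ b ∈ B, a * b = b * a) (A.subgroupOf S) C →
        Relation.ReflTransGen FRel A (C.map (S : Subgroup G).subtype) := by
      intro C hC
      induction hC with
      | refl => rw [Subgroup.map_subgroupOf_eq_of_le hAS]
      | tail _ h ih =>
        refine ih.tail ⟨isKleinFour_map Subtype.val_injective h.1, isKleinFour_map Subtype.val_injective h.2.1, ?_⟩
        rintro _ ⟨a, ha, rfl⟩ _ ⟨b, hb, rfl⟩
        rw [← map_mul, h.2.2 a ha b hb, map_mul]
    have := this _ h'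
    rwa [Subgroup.map_subgroupOf_eq_of_le hBS] at this
  have hcomp : ∀ A A' : Subgroup G, ∀ g₁ g₂ : G, (A.map (MulAut.conj g₁).toMonoidHom).map (MulAut.conj g₂).toMonoidHom =
      A.map (MulAut.conj (g₂ * g₁)).toMonoidHom := by
    intro A _ g₁ g₂
    rw [Subgroup.map_map, map_mul]
    rfl
  have hstab : ∀ x ∈ core (S : Subgroup G), ∀ A B : Subgroup G, IsKleinFour A → IsKleinFour B →
      A ≤ (S : Subgroup G) → B ≤ (S : Subgroup G) →
      Relation.ReflTransGen FRel A (B.map (MulAut.conj x).toMonoidHom) := by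
    intro x hx
    rw [core, Subgroup.iSup_eq_closure] at hx
    induction hx using Subgroup.closure_induction with
    | mem x hx =>
      intro A B hA hB hAS hBS
      obtain ⟨⟨Q, hQS, hQ⟩, hxQ⟩ := Set.mem_iUnion.1 hx
      obtain ⟨C, hCQ, hC⟩ := exists_four hQ
      have hxC : C.map (MulAut.conj x).toMonoidHom ≤ (S : Subgroup G) := by
        rintro _ ⟨c, hc, rfl⟩
        exact hQS ((Subgroup.mem_normalizer_iff.1 hxQ c).1 (hCQ hc))
      exact (hlift A _ hA (klein_conj hC x) hAS hxC).trans (rel_conj x (hlift C B hC hB (hCQ.trans hQS) hBS))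
    | one =>
      intro A B hA hB hAS hBS
      have : B.map (MulAut.conj (1 : G)).toMonoidHom = B := by
        rw [map_one]; exact Subgroup.map_id B
      rw [this]
      exact hlift A B hA hB hAS hBS
    | mul x y _ _ ihx ihy =>
      intro A B hA hB hAS hBS
      rw [← hcomp B B y x]
      exact (ihx A A hA hA hAS hAS).trans (rel_conj x (ihy A B hA hB hAS hBS))
    | inv x _ ih =>
      intro A B hA hB hAS hBS
      have h1 := rel_conj x⁻¹ (ih B A hB hA hBS hAS)
      rw [hcomp A A x x⁻¹, inv_mul_cancel] at h1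
      have e1 : A.map (MulAut.conj (1 : G)).toMonoidHom = A := by
        rw [map_one]; exact Subgroup.map_id A
      rw [e1] at h1
      exact rel_symm h1
  intro U V hU hV
  obtain ⟨TU, hTU⟩ := four_in_sylow hU
  obtain ⟨TV, hTV⟩ := four_in_sylow hV
  obtain ⟨a, rfl⟩ := MulAction.exists_smul_eq G S TU
  obtain ⟨b, rfl⟩ := MulAction.exists_smul_eq G S TV
  have hdown : ∀ (W : Subgroup G) (g : G), IsKleinFour W → W ≤ (g • S : Sylow 2 G) →
      W.map (MulAut.conj g⁻¹).toMonoidHom ≤ (S : Subgroup G) := fun W g _ hW => by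
    have := (conj_le_iff (γ := g⁻¹) (X := W) (T := g • S)).2 hW
    rwa [inv_smul_smul] at this
  have key := rel_conj a (hstab (a⁻¹ * b) (h ▸ Subgroup.mem_top _) _ _ (klein_conj hU a⁻¹) (klein_conj hV b⁻¹)
    (hdown U a hU hTU) (hdown V b hV hTV))
  rw [hcomp U U a⁻¹ a, hcomp V V b⁻¹ (a⁻¹ * b), hcomp V V _ a, mul_inv_cancel] at key
  have e1 : ∀ W : Subgroup G, W.map (MulAut.conj (1 : G)).toMonoidHom = W := fun W => by
    rw [map_one]; exact Subgroup.map_id W
  rw [show a * (a⁻¹ * b * b⁻¹) = 1 by group, e1, e1] at key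
  exact key

end Cfsg.Agent.FourGraph
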